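import Mathlib

/-!
# Generalised inverses of maps of projective modules and projectivity of cokernels
-/

universe u v w

namespace Groth.Agent.CokerProj

open TensorProduct

variable {R : Type u} [CommRing R] {M : Type v} {N : Type w} [AddCommGroup M] [Module R M]
  [AddCommGroup N] [Module R N]

/-- The set of `g` such that `g • d` has the form `d ∘ s ∘ d` is an ideal. -/
def genInvIdeal (d : M →ₗ[R] N) : Ideal R where
  carrier := {g | ∃ s : N →ₗ[R] M, d ∘ₗ s ∘ₗ d = g • d}
  add_mem' := by
    rintro a b ⟨s, hs⟩ ⟨t, ht⟩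
    refine ⟨s + t, ?_⟩
    rw [LinearMap.add_comp, LinearMap.comp_add, hs, ht, add_smul]
  zero_mem' := ⟨0, by simp⟩
  smul_mem' := by
    rintro c a ⟨s, hs⟩
    refine ⟨c • s, ?_⟩
    rw [LinearMap.smul_comp, LinearMap.comp_smul, hs, smul_eq_mul, mul_smul]

lemma mem_genInvIdeal {d : M →ₗ[R] N} {g : R} :
    g ∈ genInvIdeal d ↔ ∃ s : N →ₗ[R] M, d ∘ₗ s ∘ₗ d = g • d := Iff.rfl

/-- If the cokernel map has a section up to `g`, then `g` is in the ideal. -/
theorem mem_genInvIdeal_of_section [Module.Projective R N] (d : M →ₗ[R] N) (g : R)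
    (h : (N ⧸ LinearMap.range d) →ₗ[R] N)
    (hh : (LinearMap.range d).mkQ ∘ₗ h = g • LinearMap.id) : g ∈ genInvIdeal d := by
  have he : ∀ n, g • n - h ((LinearMap.range d).mkQ n) ∈ LinearMap.range d := by
    intro n
    rw [← Submodule.Quotient.mk_eq_zero, ← Submodule.mkQ_apply, map_sub, map_smul]
    have := LinearMap.congr_fun hh ((LinearMap.range d).mkQ n)
    simp only [LinearMap.coe_comp, Function.comp_apply, LinearMap.smul_apply,
      LinearMap.id_coe, id_eq] at this
    rw [this, sub_self]
  let e : N →ₗ[R] LinearMap.range d :=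
    LinearMap.codRestrict _ (g • LinearMap.id - h ∘ₗ (LinearMap.range d).mkQ)
      (fun n => by simpa using he n)
  obtain ⟨s, hs⟩ := Module.projective_lifting_property d.rangeRestrict e
    d.surjective_rangeRestrict
  refine ⟨s, ?_⟩
  ext x
  have h1 := LinearMap.congr_fun hs (d x)
  have h2 := congrArg Subtype.val h1
  simp only [LinearMap.coe_comp, Function.comp_apply, e, LinearMap.codRestrict_apply,
    LinearMap.sub_apply, LinearMap.smul_apply, LinearMap.id_coe, id_eq] at h2
  have h3 : (LinearMap.range d).mkQ (d x) = 0 := by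
    rw [Submodule.mkQ_apply, Submodule.Quotient.mk_eq_zero]; exact ⟨x, rfl⟩
  rw [h3, map_zero, sub_zero] at h2
  simpa using h2

/-- Conversely, an element of the ideal gives a section of the cokernel up to `g`. -/
theorem exists_section_of_mem_genInvIdeal (d : M →ₗ[R] N) (g : R) (hg : g ∈ genInvIdeal d) :
    ∃ h : (N ⧸ LinearMap.range d) →ₗ[R] N,
      (LinearMap.range d).mkQ ∘ₗ h = g • LinearMap.id := by
  obtain ⟨s, hs⟩ := hg
  refine ⟨(LinearMap.range d).liftQ (g • LinearMap.id - d ∘ₗ s) ?_, ?_⟩
  · rintro _ ⟨x, rfl⟩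
    have := LinearMap.congr_fun hs x
    simp only [LinearMap.coe_comp, Function.comp_apply, LinearMap.smul_apply] at this
    simp [LinearMap.mem_ker, this]
  · refine Submodule.linearMap_qext _ ?_
    ext n
    simp

/-- A generalised inverse makes the cokernel projective. -/
theorem projective_of_one_mem [Module.Projective R N] (d : M →ₗ[R] N)
    (h1 : (1 : R) ∈ genInvIdeal d) : Module.Projective R (N ⧸ LinearMap.range d) := by
  obtain ⟨h, hh⟩ := exists_section_of_mem_genInvIdeal d 1 h1
  exact Module.Projective.of_split h (LinearMap.range d).mkQ (by simpa using hh)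

/-- A projective cokernel gives a generalised inverse. -/
theorem one_mem_of_projective [Module.Projective R N] (d : M →ₗ[R] N)
    [Module.Projective R (N ⧸ LinearMap.range d)] : (1 : R) ∈ genInvIdeal d := by
  obtain ⟨h, hh⟩ := Module.projective_lifting_property (LinearMap.range d).mkQ
    (LinearMap.id (R := R) (M := N ⧸ LinearMap.range d)) (Submodule.mkQ_surjective _)
  exact mem_genInvIdeal_of_section d 1 h (by simpa using hh)

/-- If `g` is in the ideal, kernels surject onto kernels after base change to algebras in which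
`g` is a unit. -/
theorem ker_le_range_of_mem (d : M →ₗ[R] N) (g : R) (hg : g ∈ genInvIdeal d)
    (A : Type*) [CommRing A] [Algebra R A] (hu : IsUnit (algebraMap R A g)) :
    LinearMap.ker (d.baseChange A) ≤ LinearMap.range ((LinearMap.ker d).subtype.baseChange A) := by
  obtain ⟨s, hs⟩ := hg
  intro x hx
  let q : M →ₗ[R] LinearMap.ker d := LinearMap.codRestrict _ (g • LinearMap.id - s ∘ₗ d)
    (fun m => by
      have := LinearMap.congr_fun hs m
      simp only [LinearMap.coe_comp, Function.comp_apply, LinearMap.smul_apply] at this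
      simp [LinearMap.mem_ker, this])
  have hq : (LinearMap.ker d).subtype ∘ₗ q = g • LinearMap.id - s ∘ₗ d := by
    ext m; simp [q]
  have key : ((LinearMap.ker d).subtype.baseChange A) (q.baseChange A x)
      = algebraMap R A g • x := by
    rw [← LinearMap.comp_apply, ← LinearMap.baseChange_comp, hq, LinearMap.baseChange_sub,
      LinearMap.baseChange_smul, LinearMap.baseChange_comp, LinearMap.baseChange_id,
      LinearMap.sub_apply, LinearMap.comp_apply, LinearMap.mem_ker.mp hx, map_zero, sub_zero]
    simp [algebraMap_smul]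
  refine ⟨(↑hu.unit⁻¹ : A) • q.baseChange A x, ?_⟩
  rw [map_smul, key, smul_smul, hu.val_inv_mul, one_smul]

/-- If the kernel surjects after base change to `κ(p)`, some element outside `p` is in the
ideal. -/
theorem exists_mem_notMem_of_ker_le_range [Module.Finite R M] [Module.Finite R N]
    [Module.Projective R N] (d : M →ₗ[R] N) (p : Ideal R) [p.IsPrime]
    (hp : LinearMap.ker (d.baseChange p.ResidueField) ≤
      LinearMap.range ((LinearMap.ker d).subtype.baseChange p.ResidueField)) :
    ∃ g, g ∈ genInvIdeal d ∧ g ∉ p := by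
  classical
  let K := p.ResidueField
  let dK := d.baseChange K
  -- a basis of the image consisting of images of elements of `M`
  let V : Set (K ⊗[R] N) := Set.range fun m : M => (1 : K) ⊗ₜ[R] d m
  have hV : Submodule.span K V = LinearMap.range dK := by
    apply le_antisymm
    · rw [Submodule.span_le]
      rintro _ ⟨m, rfl⟩
      exact ⟨(1 : K) ⊗ₜ[R] m, by simp [dK]⟩
    · rintro _ ⟨x, rfl⟩
      induction x using TensorProduct.induction_on with
      | zero => simp
      | add a b ha hb => rw [map_add]; exact add_mem ha hb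
      | tmul a m =>
        rw [LinearMap.baseChange_tmul,
          show a ⊗ₜ[R] d m = a • ((1 : K) ⊗ₜ[R] d m) by rw [smul_tmul', smul_eq_mul, mul_one]]
        exact Submodule.smul_mem _ _ (Submodule.subset_span ⟨m, rfl⟩)
  obtain ⟨b, hbV, hspan, hli⟩ := exists_linearIndependent K V
  have : Fintype b := hli.setFinite.fintype
  choose m hm using fun i : b => hbV i.2
  -- the functionals
  let L := Submodule.span K (Set.range (fun i : b => (i : K ⊗[R] N)))
  have hfun : ∀ i : b, ∃ ψ : K ⊗[R] N →ₗ[K] K, ∀ j : b, ψ j = if i = j then 1 else 0 := by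
    intro i
    let B := Module.Basis.span hli
    obtain ⟨ψ, hψ⟩ := LinearMap.exists_extend (B.coord i)
    refine ⟨ψ, fun j => ?_⟩
    have h1 : (B j : K ⊗[R] N) = (j : K ⊗[R] N) :=
      congrArg Subtype.val (Module.Basis.span_apply hli j)
    have h2 := LinearMap.congr_fun hψ (B j)
    simp only [LinearMap.coe_comp, Function.comp_apply, Submodule.subtype_apply, h1,
      Module.Basis.coord_apply, Module.Basis.repr_self] at h2
    rw [h2, Finsupp.single_apply]
    simp [eq_comm]
  choose ψ hψ using hfun
  -- lift them to functionals on `N` up to denominators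
  obtain ⟨k, π, hπ⟩ := Module.Finite.exists_fin' R N
  obtain ⟨σ, hσ⟩ := Module.projective_lifting_property π LinearMap.id hπ
  obtain ⟨φ, c, hc, hφ⟩ : ∃ (φ : b → (N →ₗ[R] R)) (c : R), c ∉ p ∧
      ∀ i n, algebraMap R K (φ i n) = algebraMap R K c * ψ i ((1 : K) ⊗ₜ[R] n) := by
    let y : b → Fin k → K := fun i l => ψ i ((1 : K) ⊗ₜ[R] π (Pi.single l 1))
    have hfr : ∀ z : K, ∃ r s : R, s ∉ p ∧ algebraMap R K s * z = algebraMap R K r := by
      intro z
      obtain ⟨⟨r', s', hs'⟩, hz⟩ := IsLocalization.surj (nonZeroDivisors (R ⧸ p)) z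
      obtain ⟨r, rfl⟩ := Ideal.Quotient.mk_surjective r'
      obtain ⟨s, rfl⟩ := Ideal.Quotient.mk_surjective s'
      refine ⟨r, s, fun h => nonZeroDivisors.ne_zero hs'
        (Ideal.Quotient.eq_zero_iff_mem.mpr h), ?_⟩
      rw [mul_comm]
      exact hz
    choose r s hs hrs using fun i l => hfr (y i l)
    have hs' : ∀ i l, ∃ t, t * s i l = ∏ x : b × Fin k, s x.1 x.2 := fun i l =>
      ⟨_, Finset.prod_erase_mul (Finset.univ) (fun x : b × Fin k => s x.1 x.2)
        (Finset.mem_univ (i, l))⟩
    choose t ht using hs'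
    let c := ∏ x : b × Fin k, s x.1 x.2
    refine ⟨fun i => (Fintype.linearCombination R (fun l => t i l * r i l)) ∘ₗ σ, c, ?_, ?_⟩
    · exact fun h => by
        obtain ⟨x, _, hx⟩ := (‹p.IsPrime›.prod_mem_iff).mp h
        exact hs _ _ hx
    · intro i n
      have hn : n = ∑ l, σ n l • π (Pi.single l 1) := by
        conv_lhs => rw [show n = π (σ n) from (LinearMap.congr_fun hσ n).symm,
          pi_eq_sum_univ (σ n)]
        rw [map_sum]
        refine Finset.sum_congr rfl fun l _ => ?_
        rw [map_smul]
        congr 2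
        ext l'
        simp [Pi.single_apply, eq_comm]
      conv_rhs => rw [hn, TensorProduct.tmul_sum, map_sum, Finset.mul_sum]
      simp only [LinearMap.coe_comp, Function.comp_apply, Fintype.linearCombination_apply,
        map_sum, smul_eq_mul]
      refine Finset.sum_congr rfl fun l _ => ?_
      rw [TensorProduct.tmul_smul, ← algebraMap_smul K (σ n l), map_smul, smul_eq_mul,
        map_mul, map_mul, ← hrs i l]
      have : algebraMap R K c = algebraMap R K (t i l) * algebraMap R K (s i l) := by
        rw [← map_mul, ht]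
      rw [this]
      ring
  let A : Matrix b b R := Matrix.of fun i j => φ i (d (m j))
  have hA : (algebraMap R K).mapMatrix A = algebraMap R K c • (1 : Matrix b b K) := by
    ext i j
    simp only [RingHom.mapMatrix_apply, Matrix.map_apply, A, Matrix.of_apply, hφ,
      Matrix.smul_apply, Matrix.one_apply, smul_eq_mul]
    rw [show (1 : K) ⊗ₜ[R] d (m j) = (j : K ⊗[R] N) from hm j, hψ]
  have hdet : A.det ∉ p := by
    intro h
    have h2 := congrArg Matrix.det hA
    rw [← RingHom.map_det, Matrix.det_smul, Matrix.det_one, mul_one] at h2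
    rw [Ideal.algebraMap_residueField_eq_zero.mpr h] at h2
    have h3 : algebraMap R K c ≠ 0 := fun h' => hc (Ideal.algebraMap_residueField_eq_zero.mp h')
    exact pow_ne_zero _ h3 h2.symm
  let s₀ : N →ₗ[R] M :=
    Fintype.linearCombination R m ∘ₗ A.adjugate.mulVecLin ∘ₗ LinearMap.pi φ
  have hs₀ : ∀ j, d (s₀ (d (m j))) = A.det • d (m j) := by
    intro j
    have h1 : LinearMap.pi φ (d (m j)) = A.mulVec (Pi.single j 1) := by
      ext i; simp [A]
    simp only [s₀, LinearMap.coe_comp, Function.comp_apply, h1, Matrix.mulVecLin_apply,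
      Matrix.mulVec_mulVec, Matrix.adjugate_mul, Matrix.smul_mulVec, Matrix.one_mulVec, map_smul]
    congr 2
    rw [Fintype.linearCombination_apply_single, one_smul]
  -- Nakayama
  let P := Submodule.span R (Set.range m) ⊔ LinearMap.ker d
  have htop : Submodule.map (TensorProduct.mk R K M 1) P ≤
      (Submodule.span K ((fun x => (1 : K) ⊗ₜ[R] x) '' (P : Set M))).restrictScalars R := by
    rintro _ ⟨x, hx, rfl⟩
    exact Submodule.subset_span ⟨x, hx, rfl⟩
  have hgen : ∀ x : K ⊗[R] M,
      x ∈ Submodule.span K ((fun x => (1 : K) ⊗ₜ[R] x) '' (P : Set M)) := by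
    intro x
    have hx : dK x ∈ Submodule.span K (Set.range fun i : b => (i : K ⊗[R] N)) := by
      rw [Subtype.range_coe_subtype, Set.setOf_mem_eq, hspan, hV]
      exact ⟨x, rfl⟩
    obtain ⟨a, ha⟩ := (Submodule.mem_span_range_iff_exists_fun K).mp hx
    have hker : x - ∑ i, a i • ((1 : K) ⊗ₜ[R] m i) ∈ LinearMap.ker dK := by
      rw [LinearMap.mem_ker, map_sub, map_sum, ← ha, sub_eq_zero]
      refine Finset.sum_congr rfl fun i _ => ?_
      rw [map_smul, LinearMap.baseChange_tmul]
      congr 1
      exact (hm i).symm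
    obtain ⟨z, hz⟩ := hp hker
    have h1 : ∑ i, a i • ((1 : K) ⊗ₜ[R] m i) ∈
        Submodule.span K ((fun x => (1 : K) ⊗ₜ[R] x) '' (P : Set M)) :=
      sum_mem fun i _ => Submodule.smul_mem _ _ (Submodule.subset_span
        ⟨m i, Submodule.mem_sup_left (Submodule.subset_span ⟨i, rfl⟩), rfl⟩)
    have h2 : (LinearMap.ker d).subtype.baseChange K z ∈
        Submodule.span K ((fun x => (1 : K) ⊗ₜ[R] x) '' (P : Set M)) := by
      clear hz
      induction z using TensorProduct.induction_on with
      | zero => simp
      | add u v hu hv => rw [map_add]; exact add_mem hu hv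
      | tmul u v =>
        rw [LinearMap.baseChange_tmul, Submodule.subtype_apply,
          show u ⊗ₜ[R] (v : M) = u • ((1 : K) ⊗ₜ[R] (v : M)) by
            rw [smul_tmul', smul_eq_mul, mul_one]]
        exact Submodule.smul_mem _ _ (Submodule.subset_span
          ⟨v, Submodule.mem_sup_right v.2, rfl⟩)
    rw [hz] at h2
    simpa using add_mem h2 h1
  have hQ : Subsingleton (K ⊗[R] (M ⧸ P)) := by
    refine subsingleton_of_forall_eq 0 fun y => ?_
    obtain ⟨x, rfl⟩ := LinearMap.lTensor_surjective K (Submodule.mkQ_surjective P) y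
    have := hgen x
    rw [← LinearMap.baseChange_eq_ltensor]
    induction this using Submodule.span_induction with
    | mem x hx =>
      obtain ⟨v, hv, rfl⟩ := hx
      rw [LinearMap.baseChange_tmul, Submodule.mkQ_apply,
        (Submodule.Quotient.mk_eq_zero P).mpr hv, TensorProduct.tmul_zero]
    | zero => simp
    | add _ _ _ _ h1 h2 => rw [map_add, h1, h2, add_zero]
    | smul t _ _ h1 => rw [map_smul, h1, smul_zero]
  obtain ⟨h, hh, hhP⟩ : ∃ h, h ∉ p ∧ ∀ x : M, h • x ∈ P := by
    have h1 : (⟨p, ‹_›⟩ : PrimeSpectrum R) ∉ Module.support R (M ⧸ P) := by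
      rw [Module.mem_support_iff_nontrivial_residueField_tensorProduct]
      exact not_nontrivial_iff_subsingleton.mpr hQ
    rw [Module.support_eq_zeroLocus, PrimeSpectrum.mem_zeroLocus, SetLike.coe_subset_coe] at h1
    obtain ⟨h, hh1, hh2⟩ := SetLike.not_le_iff_exists.mp h1
    refine ⟨h, hh2, fun x => ?_⟩
    rw [← Submodule.Quotient.mk_eq_zero, Submodule.Quotient.mk_smul]
    exact Module.mem_annihilator.mp hh1 _
  refine ⟨h * A.det, ⟨h • s₀, ?_⟩, fun h' => (‹p.IsPrime›.mem_or_mem h').elim hh hdet⟩
  ext x
  have hxP := hhP x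
  obtain ⟨u, hu, v, hv, huv⟩ := Submodule.mem_sup.mp hxP
  have hlin : d (s₀ (d u)) = A.det • d u := by
    have h1 : d ∘ₗ s₀ ∘ₗ d ∘ₗ (Submodule.span R (Set.range m)).subtype =
        (A.det • d) ∘ₗ (Submodule.span R (Set.range m)).subtype := by
      refine LinearMap.ext_on (Submodule.span_span_coe_preimage) ?_
      rintro ⟨z, hz⟩ ⟨i, rfl⟩
      exact hs₀ i
    exact LinearMap.congr_fun h1 ⟨u, hu⟩
  have hdv : d v = 0 := hv
  have : d (h • x) = d u := by rw [← huv, map_add, hdv, add_zero]
  simp only [LinearMap.coe_comp, Function.comp_apply, LinearMap.smul_apply]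
  rw [← map_smul s₀, ← map_smul d, this, hlin, ← this, map_smul, smul_smul, mul_comm]

/-- Localised cokernel is projective when `g` is in the ideal. -/
theorem projective_localized_of_mem [Module.Projective R N] (d : M →ₗ[R] N) (g : R)
    (hg : g ∈ genInvIdeal d) :
    Module.Projective (Localization.Away g)
      (LocalizedModule (Submonoid.powers g) (N ⧸ LinearMap.range d)) := by
  obtain ⟨h, hh⟩ := exists_section_of_mem_genInvIdeal d g hg
  let S := Submonoid.powers g
  let L := Localization.Away g
  have hproj : Module.Projective L (LocalizedModule S N) :=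
    Module.Projective.of_equiv ((IsLocalizedModule.isBaseChange S L
      (LocalizedModule.mkLinearMap S N)).equiv)
  obtain ⟨w, hw⟩ := IsLocalization.Away.algebraMap_isUnit (S := L) g
  let i := (↑w⁻¹ : L) • LocalizedModule.map S h
  refine Module.Projective.of_split i (LocalizedModule.map S (LinearMap.range d).mkQ) ?_
  ext x
  induction x using LocalizedModule.induction_on with
  | _ m s =>
    have := LinearMap.congr_fun hh m
    simp only [LinearMap.coe_comp, Function.comp_apply, LinearMap.smul_apply, LinearMap.id_coe,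
      id_eq] at this
    simp only [i, LinearMap.coe_comp, Function.comp_apply, LinearMap.smul_apply, map_smul,
      LinearMap.id_coe, id_eq, LocalizedModule.map_mk, this]
    rw [← LocalizedModule.smul'_mk, ← algebraMap_smul L g, smul_smul, ← hw, Units.inv_mul,
      one_smul]

/-- If the localised cokernel is projective, some power of `g` is in the ideal. -/
theorem pow_mem_of_projective_localized [Module.Finite R M] [Module.Finite R N]
    [Module.Projective R N] (d : M →ₗ[R] N) (g : R)
    (hP : Module.Projective (Localization.Away g)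
      (LocalizedModule (Submonoid.powers g) (N ⧸ LinearMap.range d))) :
    ∃ k : ℕ, g ^ k ∈ genInvIdeal d := by
  let S := Submonoid.powers g
  let C := N ⧸ LinearMap.range d
  have hNfp : Module.FinitePresentation R N :=
    Module.finitePresentation_of_projective R N
  have hCfp : Module.FinitePresentation R C :=
    Module.finitePresentation_of_surjective (LinearMap.range d).mkQ
      (Submodule.mkQ_surjective _) (by rw [Submodule.ker_mkQ]; exact Module.Finite.iff_fg.mp inferInstance)
  have hsurj : Function.Surjective (LocalizedModule.map S (LinearMap.range d).mkQ) := by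
    intro y
    induction y using LocalizedModule.induction_on with
    | _ m s =>
      obtain ⟨n, rfl⟩ := (LinearMap.range d).mkQ_surjective m
      exact ⟨LocalizedModule.mk n s, by rw [LocalizedModule.map_mk]⟩
  obtain ⟨σ, hσ⟩ := Module.projective_lifting_property _
    (LinearMap.id (R := Localization.Away g) (M := LocalizedModule S C)) hsurj
  obtain ⟨h, s, hs⟩ := Module.FinitePresentation.exists_lift_of_isLocalizedModule S
    (LocalizedModule.mkLinearMap S N) ((σ.restrictScalars R) ∘ₗ LocalizedModule.mkLinearMap S C)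
  have h2 : (LocalizedModule.mkLinearMap S C) ∘ₗ ((LinearMap.range d).mkQ ∘ₗ h) =
      (LocalizedModule.mkLinearMap S C) ∘ₗ ((s : R) • LinearMap.id) := by
    refine LinearMap.ext fun c => ?_
    have e1 := LinearMap.congr_fun hs c
    simp only [LinearMap.coe_comp, Function.comp_apply, LinearMap.smul_apply, LinearMap.id_coe,
      id_eq, map_smul, LocalizedModule.mkLinearMap_apply, LinearMap.coe_restrictScalars,
      Submonoid.smul_def] at e1 ⊢
    have e2 := congrArg (LocalizedModule.map S (LinearMap.range d).mkQ) e1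
    rw [LocalizedModule.map_mk] at e2
    rw [e2, LinearMap.map_smul_of_tower]
    congr 1
    exact LinearMap.congr_fun hσ _
  obtain ⟨t, ht⟩ := Module.Finite.exists_smul_of_comp_eq_of_isLocalizedModule S
    (LocalizedModule.mkLinearMap S C) _ _ h2
  obtain ⟨k, hk⟩ := (t * s).2
  refine ⟨k, mem_genInvIdeal_of_section d _ ((t : R) • h) ?_⟩
  rw [LinearMap.comp_smul, show g ^ k = (t : R) * (s : R) from hk.trans rfl, mul_smul]
  simpa [Submonoid.smul_def] using ht

theorem projective_coker_iff [Module.Finite R M] [Module.Finite R N] [Module.Projective R N]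
    (d : M →ₗ[R] N) :
    Module.Projective R (N ⧸ LinearMap.range d) ↔
      ∀ p : PrimeSpectrum R,
        LinearMap.ker (d.baseChange p.asIdeal.ResidueField) ≤
          LinearMap.range ((LinearMap.ker d).subtype.baseChange p.asIdeal.ResidueField) := by
  constructor
  · intro h p
    exact ker_le_range_of_mem d 1 (one_mem_of_projective d) _ (by simp)
  · intro h
    refine projective_of_one_mem d ?_
    rw [← Ideal.eq_top_iff_one]
    by_contra hne
    obtain ⟨m, hm, hle⟩ := Ideal.exists_le_maximal _ hne
    obtain ⟨g, hg, hgm⟩ := exists_mem_notMem_of_ker_le_range d m (h ⟨m, hm.isPrime⟩)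
    exact hgm (hle hg)

theorem ker_le_range_iff_exists_projective [Module.Finite R M] [Module.Finite R N]
    [Module.Projective R N] (d : M →ₗ[R] N) (p : PrimeSpectrum R) :
    LinearMap.ker (d.baseChange p.asIdeal.ResidueField) ≤
        LinearMap.range ((LinearMap.ker d).subtype.baseChange p.asIdeal.ResidueField) ↔
      ∃ f : R, f ∉ p.asIdeal ∧
        Module.Projective (Localization.Away f)
          (LocalizedModule (Submonoid.powers f) (N ⧸ LinearMap.range d)) := by
  constructor
  · intro h
    obtain ⟨g, hg, hgp⟩ := exists_mem_notMem_of_ker_le_range d p.asIdeal h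
    exact ⟨g, hgp, projective_localized_of_mem d g hg⟩
  · rintro ⟨f, hf, hP⟩
    obtain ⟨k, hk⟩ := pow_mem_of_projective_localized d f hP
    refine ker_le_range_of_mem d _ hk _ ?_
    rw [map_pow]
    exact (Ne.isUnit fun h => hf (Ideal.algebraMap_residueField_eq_zero.mp h)).pow k

end Groth.Agent.CokerProj
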